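import Groth.Agent.FlatMor2.Deform
import Mathlib.AlgebraicGeometry.Gluing

/-!
Gluing a compatible system of flat deformations of the members of a basis of opens.
-/

set_option linter.style.haveILetI false
set_option linter.style.longLine false
set_option linter.unusedSectionVars false

noncomputable section

universe u

open CategoryTheory AlgebraicGeometry Limits TopologicalSpace Opposite

namespace Groth.SmoothLift

variable {X₀ S₀ S : Scheme.{u}}

/-- The opens with the property. -/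
abbrev Bas (P : X₀.Opens → Prop) : Type u := {W : X₀.Opens // P W}

/-- A compatible system of deformations of the opens with property `P`. -/
structure LiftSys (f₀ : X₀ ⟶ S₀) (i : S₀ ⟶ S) (P : X₀.Opens → Prop) where
  /-- The piece. -/
  obj : Bas P → Scheme.{u}
  /-- The structure map. -/
  f : ∀ a, obj a ⟶ S
  flat : ∀ a, Flat (f a)
  /-- The closed fibre. -/
  j : ∀ a, a.1.toScheme ⟶ obj a
  sq : ∀ a, IsPullback (j a) (a.1.ι ≫ f₀) (f a) i
  /-- The transition maps. -/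
  map : ∀ {a b : Bas P}, a.1 ≤ b.1 → (obj a ⟶ obj b)
  map_f : ∀ {a b : Bas P} (h : a.1 ≤ b.1), map h ≫ f b = f a
  j_map : ∀ {a b : Bas P} (h : a.1 ≤ b.1), j a ≫ map h = X₀.homOfLE h ≫ j b
  map_id : ∀ a : Bas P, map (le_refl a.1) = 𝟙 (obj a)
  map_comp : ∀ {a b c : Bas P} (h : a.1 ≤ b.1) (h' : b.1 ≤ c.1), map h ≫ map h' = map (h.trans h')

namespace LiftSys

variable {f₀ : X₀ ⟶ S₀} {i : S₀ ⟶ S} {P : X₀.Opens → Prop} (L : LiftSys f₀ i P)

/-- The diagram of pieces. -/
def diagram : Bas P ⥤ Scheme.{u} where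
  obj := L.obj
  map h := L.map (leOfHom h)
  map_id a := L.map_id a
  map_comp h h' := (L.map_comp (leOfHom h) (leOfHom h')).symm

variable (hi : MoreMor.IsFiniteOrderThickening i)

include hi in
lemma bijective_j (a : Bas P) : Function.Bijective (L.j a) := by
  obtain ⟨⟨h1, h2⟩, -⟩ := Groth.FlatMor2.isFiniteOrderThickening_of_isPullback hi (L.sq a)
  exact ⟨(L.j a).isClosedEmbedding.injective, (L.j a).surjective⟩

include hi in
lemma isOpenImmersion_map {a b : Bas P} (h : a.1 ≤ b.1) : IsOpenImmersion (L.map h) := by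
  haveI : Flat (L.map h ≫ L.f b) := by rw [L.map_f]; exact L.flat a
  refine (Groth.FlatMor2.isOpenImmersion_iff_deform (f := X₀.homOfLE h) (f' := L.map h) hi ?_ (L.sq b) (L.j_map h)).1 inferInstance
  rw [L.map_f, Scheme.homOfLE_ι_assoc]
  exact L.sq a

lemma map_j_apply {a b : Bas P} (h : a.1 ≤ b.1) (w : a.1.toScheme) :
    L.map h (L.j a w) = L.j b (X₀.homOfLE h w) := by
  rw [← Scheme.Hom.comp_apply, L.j_map, Scheme.Hom.comp_apply]

variable (hbasis : ∀ (V : X₀.Opens) (p : X₀), p ∈ V → ∃ a : Bas P, p ∈ a.1 ∧ a.1 ≤ V)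

include hi hbasis in
lemma exists_common {a b c : Bas P} (fa : a.1 ≤ c.1) (fb : b.1 ≤ c.1) (xa : L.obj a) (xb : L.obj b)
    (heq : L.map fa xa = L.map fb xb) :
    ∃ (l : Bas P) (ha : l.1 ≤ a.1) (hb : l.1 ≤ b.1) (xl : L.obj l), L.map ha xl = xa ∧ L.map hb xl = xb := by
  obtain ⟨va, rfl⟩ := (L.bijective_j hi a).2 xa
  obtain ⟨vb, rfl⟩ := (L.bijective_j hi b).2 xb
  rw [L.map_j_apply, L.map_j_apply] at heq
  have hv : va.1 = vb.1 := by
    have := congrArg Subtype.val ((L.bijective_j hi c).1 heq)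
    rwa [Scheme.homOfLE_apply, Scheme.homOfLE_apply] at this
  obtain ⟨l, hl, hle⟩ := hbasis (a.1 ⊓ b.1) va.1 ⟨va.2, hv ▸ vb.2⟩
  refine ⟨l, hle.trans inf_le_left, hle.trans inf_le_right, L.j l ⟨va.1, hl⟩, ?_, ?_⟩
  · refine (L.map_j_apply _ _).trans (congrArg _ (Subtype.ext ?_))
    rw [Scheme.homOfLE_apply]
  · refine (L.map_j_apply _ _).trans (congrArg _ (Subtype.ext ?_))
    rw [Scheme.homOfLE_apply]
    exact hv

/-- The covering of `X₀` by the members. -/
@[simps I₀ X f]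
def cover : X₀.OpenCover where
  I₀ := Bas P
  X a := a.1.toScheme
  f a := a.1.ι
  mem₀ := by
    rw [Scheme.presieve₀_mem_precoverage_iff]
    refine ⟨fun p => ?_, inferInstance⟩
    obtain ⟨a, ha, -⟩ := hbasis ⊤ p trivial
    exact ⟨a, ⟨p, ha⟩, rfl⟩

instance : Preorder (cover hbasis).I₀ := inferInstanceAs (Preorder (Bas P))

instance : Scheme.Cover.LocallyDirected (cover hbasis) :=
  .ofIsBasisOpensRange (fun {a b} => by
    change a.1 ≤ b.1 ↔ Scheme.Hom.opensRange (a : Bas P).1.ι ≤ Scheme.Hom.opensRange (b : Bas P).1.ι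
    rw [Scheme.Opens.opensRange_ι, Scheme.Opens.opensRange_ι]) <| by
    refine Opens.isBasis_iff_nbhd.2 fun {V p} hp => ?_
    obtain ⟨a, ha, hle⟩ := hbasis V p hp
    refine ⟨_, ⟨a, rfl⟩, ?_, ?_⟩
    · change p ∈ (a.1.ι).opensRange
      rw [Scheme.Opens.opensRange_ι]; exact ha
    · change (a.1.ι).opensRange ≤ V
      rw [Scheme.Opens.opensRange_ι]; exact hle

lemma cover_trans {a b : Bas P} (h : a ≤ b) :
    Scheme.Cover.trans (cover hbasis) (homOfLE h : (a : (cover hbasis).I₀) ⟶ b) = X₀.homOfLE h := by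
  refine (cancel_mono b.1.ι).1 ?_
  exact (Scheme.Cover.trans_map (cover hbasis) _).trans (Scheme.homOfLE_ι _ _).symm

include hi hbasis in
/-- The system glues to a deformation. -/
theorem exists_glue : ∃ (X : Scheme.{u}) (f : X ⟶ S) (j : X₀ ⟶ X) (emb : ∀ a, L.obj a ⟶ X),
    Flat f ∧ IsPullback j f₀ f i ∧ (∀ a, IsOpenImmersion (emb a)) ∧ (∀ a, emb a ≫ f = L.f a) ∧
      (∀ a, a.1.ι ≫ j = L.j a ≫ emb a) ∧ (∀ {a b : Bas P} (h : a.1 ≤ b.1), L.map h ≫ emb b = emb a) := by
  haveI : ∀ (a b : Bas P) (h : a ⟶ b), IsOpenImmersion (L.diagram.map h) := fun a b h =>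
    L.isOpenImmersion_map hi (leOfHom h)
  haveI : (L.diagram ⋙ Scheme.forget).IsLocallyDirected := ⟨fun {a b c} fa fb xa xb heq => by
    obtain ⟨l, ha, hb, xl, e1, e2⟩ := L.exists_common hi hbasis (leOfHom fa) (leOfHom fb) xa xb heq
    exact ⟨l, homOfLE ha, homOfLE hb, xl, e1, e2⟩⟩
  let T := colimit L.diagram
  let emb : ∀ a, L.obj a ⟶ T := fun a => colimit.ι L.diagram a
  haveI hemb : ∀ a, IsOpenImmersion (emb a) := fun a =>
    inferInstanceAs (IsOpenImmersion ((Scheme.IsLocallyDirected.openCover L.diagram).f a))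
  have hw : ∀ {a b : Bas P} (h : a.1 ≤ b.1), L.map h ≫ emb b = emb a := fun {a b} h =>
    colimit.w L.diagram (homOfLE (show a ≤ b from h))
  let f : T ⟶ S := colimit.desc L.diagram (Cocone.mk S
    { app := fun a => L.f a
      naturality := fun a b h => (L.map_f (leOfHom h)).trans (Category.comp_id _).symm })
  have hf : ∀ a, emb a ≫ f = L.f a := fun a => colimit.ι_desc _ a
  have hflat : Flat f := by
    refine IsZariskiLocalAtSource.of_openCover (Scheme.IsLocallyDirected.openCover L.diagram) fun a => ?_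
    change Flat (emb a ≫ f)
    rw [hf]
    exact L.flat a
  have hcompat : ∀ {a b : (cover hbasis).I₀} (h : a ⟶ b),
      Scheme.Cover.trans (cover hbasis) h ≫ L.j b ≫ emb b = L.j a ≫ emb a := by
    intro a b h
    have e : Scheme.Cover.trans (cover hbasis) h = X₀.homOfLE (leOfHom h) := cover_trans hbasis (leOfHom h)
    rw [e]
    exact (Category.assoc _ _ _).symm.trans ((congrArg (· ≫ emb b) (L.j_map (leOfHom h)).symm).trans
      ((Category.assoc _ _ _).trans (congrArg (L.j a ≫ ·) (hw (leOfHom h)))))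
  let j : X₀ ⟶ T := (cover hbasis).glueMorphismsOfLocallyDirected (fun a => L.j a ≫ emb a) hcompat
  have hj : ∀ a, a.1.ι ≫ j = L.j a ≫ emb a := fun a =>
    Scheme.OpenCover.map_glueMorphismsOfLocallyDirected (𝒰 := cover hbasis) (fun a => L.j a ≫ emb a) hcompat a
  have hpre : ∀ a, j ⁻¹ᵁ (emb a).opensRange = a.1 := by
    intro a
    refine le_antisymm (fun p hp => ?_) fun p hp => ?_
    · obtain ⟨q, hq⟩ := hp
      obtain ⟨va, rfl⟩ := (L.bijective_j hi a).2 q
      obtain ⟨b, hb, -⟩ := hbasis ⊤ p trivial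
      have h2 : emb b (L.j b ⟨p, hb⟩) = j p := congr($(hj b).base ⟨p, hb⟩).symm
      obtain ⟨l, fa, fb, xl, e1, e2⟩ := (Scheme.IsLocallyDirected.ι_eq_ι_iff L.diagram).1 (hq.trans h2.symm)
      change L.map (leOfHom fa) xl = _ at e1
      change L.map (leOfHom fb) xl = _ at e2
      obtain ⟨vl, rfl⟩ := (L.bijective_j hi l).2 xl
      rw [L.map_j_apply] at e1 e2
      have h3 := congrArg Subtype.val ((L.bijective_j hi b).1 e2)
      have h4 := congrArg Subtype.val ((L.bijective_j hi a).1 e1)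
      rw [Scheme.homOfLE_apply] at h3 h4
      rw [show p = va.1 from h3.symm.trans h4]
      exact va.2
    · exact ⟨L.j a ⟨p, hp⟩, congr($(hj a).base ⟨p, hp⟩).symm⟩
  refine ⟨T, f, j, emb, hflat, ?_, hemb, hf, hj, hw⟩
  refine Scheme.isPullback_of_openCover _ _ _ _ (Scheme.IsLocallyDirected.openCover L.diagram) fun a => ?_
  have h1 : IsPullback a.1.ι (L.j a) j (emb a) :=
    (IsOpenImmersion.isPullback (L.j a) a.1.ι (emb a) j (hj a)
      (by rw [hpre, Scheme.Opens.opensRange_ι])).flip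
  have h2 := L.sq a
  rw [← hf a] at h2
  refine h2.of_iso h1.isoPullback (Iso.refl _) (Iso.refl _) (Iso.refl _) ?_ ?_ ?_ ?_
  · exact (Category.comp_id _).trans h1.isoPullback_hom_snd.symm
  · simp only [Iso.refl_hom, Category.comp_id]
    exact ((Category.assoc _ _ _).symm.trans (congrArg (· ≫ f₀) h1.isoPullback_hom_fst)).symm
  · simp
    rfl
  · simp

end LiftSys

/-- Morphisms out of a scheme glue along a basis of opens. -/
theorem exists_hom_of_basis {Y Z : Scheme.{u}} {ι : Type u} [Preorder ι] (O : ι → Y.Opens)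
    (hO : ∀ {a b}, a ≤ b ↔ O a ≤ O b) (hbasis : ∀ (V : Y.Opens) (p : Y), p ∈ V → ∃ a, p ∈ O a ∧ O a ≤ V)
    (g : ∀ a, (O a).toScheme ⟶ Z) (hg : ∀ a b (h : a ≤ b), Y.homOfLE (hO.1 h) ≫ g b = g a) :
    ∃ G : Y ⟶ Z, ∀ a, (O a).ι ≫ G = g a := by
  let 𝒰 : Y.OpenCover :=
    { I₀ := ι
      X := fun a => (O a).toScheme
      f := fun a => (O a).ι
      mem₀ := by
        rw [Scheme.presieve₀_mem_precoverage_iff]
        refine ⟨fun p => ?_, inferInstance⟩
        obtain ⟨a, ha, -⟩ := hbasis ⊤ p trivial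
        exact ⟨a, ⟨p, ha⟩, rfl⟩ }
  letI : Preorder 𝒰.I₀ := ‹Preorder ι›
  letI : Scheme.Cover.LocallyDirected 𝒰 :=
    .ofIsBasisOpensRange (fun {a b} => by
      refine hO.trans ?_
      change O a ≤ O b ↔ Scheme.Hom.opensRange (O a).ι ≤ Scheme.Hom.opensRange (O b).ι
      rw [Scheme.Opens.opensRange_ι, Scheme.Opens.opensRange_ι]) <| by
      refine Opens.isBasis_iff_nbhd.2 fun {V p} hp => ?_
      obtain ⟨a, ha, hle⟩ := hbasis V p hp
      refine ⟨_, ⟨a, rfl⟩, ?_, ?_⟩
      · change p ∈ ((O a).ι).opensRange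
        rw [Scheme.Opens.opensRange_ι]; exact ha
      · change ((O a).ι).opensRange ≤ V
        rw [Scheme.Opens.opensRange_ι]; exact hle
  have hc : ∀ {a b : 𝒰.I₀} (h : a ⟶ b), Scheme.Cover.trans 𝒰 h ≫ g b = g a := by
    intro a b h
    have e : Scheme.Cover.trans 𝒰 h = Y.homOfLE (hO.1 (leOfHom h)) :=
      (cancel_mono (O b).ι).1 ((Scheme.Cover.trans_map 𝒰 _).trans (Scheme.homOfLE_ι _ _).symm)
    rw [e]
    exact hg a b (leOfHom h)
  exact ⟨𝒰.glueMorphismsOfLocallyDirected g hc,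
    fun a => Scheme.OpenCover.map_glueMorphismsOfLocallyDirected (𝒰 := 𝒰) g hc a⟩

end Groth.SmoothLift
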